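import Cfsg.Agent.H997.PF.Rows
import Cfsg.Agent.H278.ElCrossRows
import Cfsg.Agent.H304.Psl3
import Cfsg.Agent.H503.El.PG

/-!
# The row `PSL_n(q)`, `n ≥ 3`, of `S3522` (helper5)

`miss_psl` : every proper subgroup of `PSL_n(q)`, `n ≥ 3`, `(n, q) ≠ (4, 2), (6, 2)`, misses a prime divisor of the
order.  `row_psl` : the row for primitive factorizations.
-/

set_option autoImplicit false
set_option linter.style.haveILetI false

namespace Cfsg.Agent.H5.PF

open Cfsg Cfsg.Geo Cfsg.Agent.OrdDiv Cfsg.Agent.H436 Cfsg.Agent.H264.FKS Cfsg.Agent.H915.GN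
open Cfsg.Agent.H938.Sax Cfsg.Agent.H997.PF
open Cfsg.Agent.H278.El.Asm
open Cfsg.Agent.H278.El.SporNum (IsCl exc)
open Cfsg.Agent.H278.El.AltNum (dimOf surv)
open Cfsg.Agent.H884.Cx (excP)
open scoped MatrixGroups

variable {F : Type} [Field F] [Fintype F] {n : ℕ}

theorem exists_prime_dvd_card (F : Type) [Field F] [Fintype F] : ∃ p : ℕ, p.Prime ∧ p ∣ Fintype.card F := by
  obtain ⟨p, hp⟩ := CharP.exists F
  obtain ⟨k, hpp, hk⟩ := FiniteField.card F p
  exact ⟨p, hpp, hk ▸ dvd_pow_self p k.pos.ne'⟩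

/-- maximal subgroups of `PSL_n(q)`, `n ≥ 4` -/
theorem miss_coatom (tab : OrderTable.{0})
    (hK : ∀ (X : Type) [Group X] [Finite X] [IsSimpleGroup X], Cfsg.IsKnownSimple' X) (hn : 4 ≤ n)
    (h2 : ¬ (Fintype.card F = 2 ∧ (n = 4 ∨ n = 6 ∨ n = 7))) (h4 : ¬ (Fintype.card F = 4 ∧ n = 4))
    {M : Subgroup (Matrix.ProjectiveSpecialLinearGroup (Fin n) F)} (hM : IsCoatom M) : PGap _ M := by
  obtain ⟨p, hp, hpF⟩ := exists_prime_dvd_card F
  have hT : IsNamed (.psl n (Fintype.card F)) (Matrix.ProjectiveSpecialLinearGroup (Fin n) F) :=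
    named_psl (F := F) (n := n) (by omega) (by omega)
  have hfin : Finite (Matrix.ProjectiveSpecialLinearGroup (Fin n) F) := Quotient.finite _
  rcases H304.GeoL.geo (by omega) hM with h | ⟨h1, h3, -⟩ | ⟨P, hP, -⟩
  · exact h
  · exact absurd ⟨h1, Or.inr (Or.inl h3)⟩ h2
  · obtain ⟨S, hSn, hSs, hna, hC, ⟨e⟩⟩ := exists_socle
      (Matrix.SpecialLinearGroup.toGL (n := Fin n) (R := F)) H304.PslT.toGL_injective
      (H304.PslT.pr n F) (QuotientGroup.mk'_surjective _)
      (fun x => (QuotientGroup.eq_one_iff x).trans (H304.PslT.center_iff (by omega))) hP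
    obtain ⟨g, hg⟩ := named_of_simple tab hK hna
    refine res_kill (p := p) hT (show 3 ≤ n by omega) ?_ ?_ S hC hg e (Fintype.card_fin n) id ?_ ?_
    · simp only [surv, List.mem_cons, Grp.psl.injEq, reduceCtorEq, or_false, List.not_mem_nil, not_or]
      exact ⟨fun h => h2 ⟨h.2, .inl h.1⟩, by omega⟩
    · intro g' hg'
      simp only [exc, List.mem_cons, Prod.mk.injEq, Grp.psl.injEq, reduceCtorEq, and_false, or_false, false_or,
        List.not_mem_nil] at hg'
      omega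
    · exact fun hch => charRow_psl hp hpF hT hn h2 h4 M hM.1 S hSn hSs hna hC g hg hch
    · intro s hs hsp hch
      rcases cross_gen hp hT (show 3 ≤ n by omega) (hasChar_card hp hpF) (Fintype.card_fin n) hpF S hSn hSs hna hC hP
        ⟨e⟩ hs hsp hg hch with h | h
      · exact h
      · simp only [excP, List.mem_cons, Prod.mk.injEq, Grp.psl.injEq, reduceCtorEq, and_false, or_false,
          false_or, List.not_mem_nil] at h
        omega

/-- **Every proper subgroup of `PSL_n(q)`, `n ≥ 3`, `(n, q) ≠ (4, 2), (6, 2)`, misses a prime.** -/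
theorem pgap_psl (tab : OrderTable.{0})
    (hK : ∀ (X : Type) [Group X] [Finite X] [IsSimpleGroup X], Cfsg.IsKnownSimple' X) (hn : 3 ≤ n)
    (h42 : ¬ (n = 4 ∧ Fintype.card F = 2)) (h62 : ¬ (n = 6 ∧ Fintype.card F = 2))
    {R : Subgroup (Matrix.ProjectiveSpecialLinearGroup (Fin n) F)} (hR : R ≠ ⊤) : PGap _ R := by
  have hfin : Finite (Matrix.ProjectiveSpecialLinearGroup (Fin n) F) := Quotient.finite _
  by_cases h72 : n = 7 ∧ Fintype.card F = 2
  · obtain ⟨rfl, hF⟩ := h72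
    exact H503.El.pgap_psl72 tab hK F hF R hR
  by_cases h44 : n = 4 ∧ Fintype.card F = 4
  · obtain ⟨rfl, hF⟩ := h44
    exact H503.El.pgap_psl44 tab hK F hF R hR
  obtain ⟨M, hM, hRM⟩ := (eq_top_or_exists_le_coatom R).resolve_left hR
  refine pgap_mono hRM ?_
  by_cases h3 : n = 3
  · subst h3
    exact H304.Psl3.miss hM
  · exact miss_coatom tab hK (by omega) (by omega) (by omega) hM

/-- **The row `PSL_n(q)`, `n ≥ 3`.** -/
theorem row_psl (tab : OrderTable.{0})
    (hK : ∀ (X : Type) [Group X] [Finite X] [IsSimpleGroup X], Cfsg.IsKnownSimple' X) (hn : 3 ≤ n)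
    (h42 : ¬ (n = 4 ∧ Fintype.card F = 2)) (h62 : ¬ (n = 6 ∧ Fintype.card F = 2)) :
    Row (Matrix.ProjectiveSpecialLinearGroup (Fin n) F) :=
  .pgap fun _ hR => pgap_psl tab hK hn h42 h62 hR

end Cfsg.Agent.H5.PF
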